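import Groth.Agent.H06Desc.Geom
import Groth.Agent.H06Red.Scheme
import Groth.Agent.H8Props.Generic

/-!
Connected and irreducible components under field extensions (EGA IV 4.4, 4.5).
-/

set_option autoImplicit false
set_option linter.style.haveILetI false

universe u

open CategoryTheory CategoryTheory.Limits AlgebraicGeometry

namespace Groth.Agent.H06Geom

variable {k : Type u} [Field k] {X : Scheme.{u}} (f : X ⟶ Spec (CommRingCat.of k))

/-- A field containing two given extensions, with the projection of base changes. -/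
theorem exists_over (K Ω : Type u) [Field K] [Algebra k K] [Field Ω] [Algebra k Ω] :
    ∃ (E : Type u) (_ : Field E) (_ : Algebra k E) (a : K →ₐ[k] E) (b : Ω →ₐ[k] E), True := by
  obtain ⟨m, hm⟩ := Ideal.exists_maximal (TensorProduct k K Ω)
  letI := Ideal.Quotient.field m
  exact ⟨TensorProduct k K Ω ⧸ m, inferInstance, inferInstance,
    (Ideal.Quotient.mkₐ k m).comp Algebra.TensorProduct.includeLeft,
    (Ideal.Quotient.mkₐ k m).comp Algebra.TensorProduct.includeRight, trivial⟩

/-- The projection between base changes induced by a map of extensions. -/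
noncomputable def bcMap {K L : Type u} [Field K] [Algebra k K] [Field L] [Algebra k L]
    (a : K →ₐ[k] L) : FBase.bc f L ⟶ FBase.bc f K :=
  pullback.lift (pullback.fst _ _) (pullback.snd _ _ ≫ Spec.map (CommRingCat.ofHom a.toRingHom)) (by
    rw [Category.assoc, ← Spec.map_comp, ← CommRingCat.ofHom_comp,
      show a.toRingHom.comp (algebraMap k K) = algebraMap k L from RingHom.ext a.commutes]
    exact pullback.condition)

@[reassoc (attr := simp)]
theorem bcMap_bcπ {K L : Type u} [Field K] [Algebra k K] [Field L] [Algebra k L] (a : K →ₐ[k] L) :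
    bcMap f a ≫ FBase.bcπ f K = FBase.bcπ f L := pullback.lift_fst _ _ _

theorem isPullback_bcMap {K L : Type u} [Field K] [Algebra k K] [Field L] [Algebra k L]
    (a : K →ₐ[k] L) : IsPullback (bcMap f a) (FBase.bcStr f L) (FBase.bcStr f K)
      (Spec.map (CommRingCat.ofHom a.toRingHom)) := by
  refine IsPullback.of_right ?_ (pullback.lift_snd _ _ _) (IsPullback.of_hasPullback f _)
  rw [← Spec.map_comp, ← CommRingCat.ofHom_comp,
    show a.toRingHom.comp (algebraMap k K) = algebraMap k L from RingHom.ext a.commutes]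
  have h : bcMap f a ≫ pullback.fst f (Spec.map (CommRingCat.ofHom (algebraMap k K)))
      = pullback.fst f (Spec.map (CommRingCat.ofHom (algebraMap k L))) := pullback.lift_fst _ _ _
  exact h ▸ IsPullback.of_hasPullback f _

theorem surjective_bcMap {K L : Type u} [Field K] [Algebra k K] [Field L] [Algebra k L]
    (a : K →ₐ[k] L) : Function.Surjective (bcMap f a) :=
  (MorphismProperty.of_isPullback (P := @Surjective) (isPullback_bcMap f a).flip
    inferInstance : Surjective (bcMap f a)).surj

theorem flat_bcMap {K L : Type u} [Field K] [Algebra k K] [Field L] [Algebra k L]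
    (a : K →ₐ[k] L) : Flat (bcMap f a) := by
  have : Flat (Spec.map (CommRingCat.ofHom a.toRingHom)) := by
    rw [HasRingHomProperty.Spec_iff (P := @Flat)]
    letI := a.toRingHom.toAlgebra
    exact RingHom.flat_algebraMap_iff.2 inferInstance
  exact MorphismProperty.of_isPullback (P := @Flat) (isPullback_bcMap f a).flip this

section algClosed

variable {K L : Type u} [Field K] [Algebra k K] [IsAlgClosed K] [Field L] [Algebra k L]
  (a : K →ₐ[k] L)

theorem isIrreducible_preimage_bcMap {Z : Set ↥(FBase.bc f K)} (hZ : IsIrreducible Z) :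
    IsIrreducible (bcMap f a ⁻¹' Z) := by
  letI := a.toRingHom.toAlgebra
  let i := (isPullback_bcMap f a).isoPullback
  have h := H06Desc.isIrreducible_preimage_bcπ (K := L) (FBase.bcStr f K) hZ
  have e : bcMap f a = i.hom ≫ FBase.bcπ (FBase.bcStr f K) L := (isPullback_bcMap f a).isoPullback_hom_fst.symm
  rw [show (bcMap f a ⁻¹' Z : Set _) = i.hom ⁻¹' ((FBase.bcπ (FBase.bcStr f K) L).base ⁻¹' Z) by
    rw [e]; rfl]
  exact h.preimage_of_isPreirreducible_fiber _ i.hom.homeomorph.isOpenMap
    (fun x => (Set.subsingleton_singleton.preimage i.hom.homeomorph.injective).isPreirreducible)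
    (by
      have hs : Function.Surjective i.hom := i.hom.homeomorph.surjective
      obtain ⟨w, hw⟩ := h.nonempty
      exact ⟨w, hw, hs w⟩)

theorem isConnected_preimage_bcMap {Z : Set ↥(FBase.bc f K)} (hZ : _root_.IsConnected Z) :
    _root_.IsConnected (bcMap f a ⁻¹' Z) := by
  letI := a.toRingHom.toAlgebra
  let i := (isPullback_bcMap f a).isoPullback
  have h := H06Desc.isConnected_preimage_bcπ (K := L) (FBase.bcStr f K) hZ
  have e : bcMap f a = i.hom ≫ FBase.bcπ (FBase.bcStr f K) L := (isPullback_bcMap f a).isoPullback_hom_fst.symm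
  rw [show (bcMap f a ⁻¹' Z : Set _) = i.inv '' ((FBase.bcπ (FBase.bcStr f K) L).base ⁻¹' Z) by
    rw [e]
    ext z
    constructor
    · exact fun hz => ⟨i.hom z, hz, by rw [← Scheme.Hom.comp_apply, i.hom_inv_id]; rfl⟩
    · rintro ⟨w, hw, rfl⟩
      show FBase.bcπ (FBase.bcStr f K) L (i.hom (i.inv w)) ∈ Z
      rw [← Scheme.Hom.comp_apply i.inv, i.inv_hom_id]; exact hw]
  exact h.image _ i.inv.continuous.continuousOn

end algClosed

theorem exists_component_over {A B : Scheme.{u}} (p : A ⟶ B) [Flat p] (hp : Function.Surjective p)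
    {η : B} (hη : η ∈ genericPoints B) : ∃ ξ ∈ genericPoints A, p ξ = η := by
  obtain ⟨z, rfl⟩ := hp η
  obtain ⟨ξ, hξ, hξz⟩ := H8Props.exists_genericPoints_specializes z
  exact ⟨ξ, hξ, (H8Props.mem_genericPoints_iff.1 hη) _ (hξz.map p.continuous)⟩

theorem card_irreducibleComponents_le {K Ω : Type u} [Field K] [Algebra k K] [Field Ω] [Algebra k Ω]
    [IsAlgClosed Ω] :
    Cardinal.mk ↥(irreducibleComponents ↥(FBase.bc f K)) ≤
      Cardinal.mk ↥(irreducibleComponents ↥(FBase.bc f Ω)) := by
  obtain ⟨E, _, _, a, b, -⟩ := exists_over (k := k) K Ω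
  let e : ∀ (B : Scheme.{u}), irreducibleComponents ↥B ≃ genericPoints ↥B := fun B =>
    (genericPoints.equiv (α := B)).symm
  rw [Cardinal.mk_congr (e _), Cardinal.mk_congr (e (FBase.bc f Ω))]
  have := flat_bcMap f a
  have := flat_bcMap f b
  have h1 : Cardinal.mk (genericPoints ↥(FBase.bc f K)) ≤ Cardinal.mk (genericPoints ↥(FBase.bc f E)) := by
    choose s hs hs' using fun η : genericPoints ↥(FBase.bc f K) =>
      exists_component_over (bcMap f a) (surjective_bcMap f a) η.2
    exact Cardinal.mk_le_of_injective (f := fun η => (⟨s η, hs η⟩ : genericPoints ↥(FBase.bc f E)))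
      fun η η' h => Subtype.ext ((hs' η).symm.trans ((congrArg (fun z : genericPoints ↥(FBase.bc f E) =>
        bcMap f a z.1) h).trans (hs' η')))
  refine h1.trans (Cardinal.mk_le_of_injective (f := fun ξ : genericPoints ↥(FBase.bc f E) =>
    (⟨bcMap f b ξ.1, H8Props.flat_map_genericPoints (bcMap f b) ξ.2⟩ :
      genericPoints ↥(FBase.bc f Ω))) ?_)
  intro ξ ξ' h
  have hh : bcMap f b ξ.1 = bcMap f b ξ'.1 := congrArg Subtype.val h
  have hirr := isIrreducible_preimage_bcMap f b (isIrreducible_singleton (x := bcMap f b ξ.1)).closure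
  obtain ⟨ζ, hζ⟩ := QuasiSober.sober hirr (isClosed_closure.preimage (bcMap f b).continuous)
  exact Subtype.ext (((H8Props.mem_genericPoints_iff.1 ξ.2) ζ (hζ.specializes (subset_closure rfl : bcMap f b ξ.1 ∈ closure {bcMap f b ξ.1}))).symm.trans
    ((H8Props.mem_genericPoints_iff.1 ξ'.2) ζ (hζ.specializes (show bcMap f b ξ'.1 ∈ closure {bcMap f b ξ.1} from hh ▸ subset_closure rfl))))

theorem card_connectedComponents_le {K Ω : Type u} [Field K] [Algebra k K] [Field Ω] [Algebra k Ω]
    [IsAlgClosed Ω] :
    Cardinal.mk (_root_.ConnectedComponents ↥(FBase.bc f K)) ≤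
      Cardinal.mk (_root_.ConnectedComponents ↥(FBase.bc f Ω)) := by
  obtain ⟨E, _, _, a, b, -⟩ := exists_over (k := k) K Ω
  refine (Cardinal.mk_le_of_surjective (f := (bcMap f a).continuous.connectedComponentsMap) ?_).trans
    (Cardinal.mk_le_of_injective (f := (bcMap f b).continuous.connectedComponentsMap) ?_)
  · intro c
    obtain ⟨y, rfl⟩ := ConnectedComponents.surjective_coe c
    obtain ⟨z, rfl⟩ := surjective_bcMap f a y
    exact ⟨↑z, rfl⟩
  · intro c c' h
    obtain ⟨z, rfl⟩ := ConnectedComponents.surjective_coe c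
    obtain ⟨z', rfl⟩ := ConnectedComponents.surjective_coe c'
    have h' : connectedComponent (bcMap f b z) = connectedComponent (bcMap f b z') :=
      ConnectedComponents.coe_eq_coe.1 h
    rw [ConnectedComponents.coe_eq_coe']
    exact (isConnected_preimage_bcMap f b (isConnected_connectedComponent (x := bcMap f b z'))).2.subset_connectedComponent
      (show z' ∈ bcMap f b ⁻¹' connectedComponent (bcMap f b z') from mem_connectedComponent)
      (show bcMap f b z ∈ connectedComponent (bcMap f b z') from h' ▸ mem_connectedComponent)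

/-- Connectedness of the preimage of a connected set containing the image of a connected set. -/
theorem isConnected_preimage_of_fibre {Ω : Type u} [Field Ω] [Algebra k Ω] {Z : Set X}
    (hZ : _root_.IsConnected Z) {r : Set ↥(FBase.bc f Ω)} (hr : _root_.IsPreconnected r)
    (hrZ : r ⊆ (FBase.bcπ f Ω).base ⁻¹' Z) (hclosed : IsClosedMap (FBase.bcπ f Ω).base)
    {z₀ : X} (hz₀ : z₀ ∈ Z) (hfull : (FBase.bcπ f Ω).base ⁻¹' {z₀} ⊆ r) :
    _root_.IsConnected ((FBase.bcπ f Ω).base ⁻¹' Z) := by
  set p := FBase.bcπ f Ω
  let s := Spec.map (CommRingCat.ofHom (algebraMap k Ω))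
  have : UniversallyOpen s := H06Desc.universallyOpen_of_discreteTopology s
  have hop : IsOpenMap p := (show UniversallyOpen (pullback.fst f s) from inferInstance) |>
    fun h => (pullback.fst f s).isOpenMap
  have hsurj : Function.Surjective p := (pullback.fst f s).surjective
  haveI : ConnectedSpace Z := isConnected_iff_connectedSpace.mp hZ
  refine ⟨⟨_, hrZ (hfull (hsurj z₀).choose_spec)⟩, ?_⟩
  rw [isPreconnected_iff_preconnectedSpace, preconnectedSpace_iff_clopen]
  intro A hA
  by_contra! hne
  let r' : Set ↥(p ⁻¹' Z) := Subtype.val ⁻¹' r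
  have hr' : _root_.IsPreconnected r' := by
    rw [← Topology.IsInducing.subtypeVal.isPreconnected_image]
    rwa [Set.image_preimage_eq_of_subset (by rwa [Subtype.range_val])]
  have key : ∀ B : Set ↥(p ⁻¹' Z), IsClopen B → r' ⊆ B → B = Set.univ := by
    intro B hB hrB
    by_contra hB'
    have himg : (Z.restrictPreimage p) '' Bᶜ = Set.univ :=
      IsClopen.eq_univ ⟨(hclosed.restrictPreimage Z) _ hB.compl.isClosed,
        (hop.restrictPreimage Z) _ hB.compl.isOpen⟩ ((Set.nonempty_compl.mpr hB').image _)
    obtain ⟨w, hw, hwz⟩ := himg.ge (Set.mem_univ (⟨z₀, hz₀⟩ : Z))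
    exact hw (hrB (hfull (congrArg Subtype.val hwz)))
  by_cases h : (r' ∩ A).Nonempty
  · exact hne.2 (key A hA (hr'.subset_isClopen hA h))
  · refine hne.1.ne_empty ?_
    rw [← Set.compl_univ_iff]
    exact key _ hA.compl fun x hx hxA => h ⟨x, hx, hxA⟩

/-- Descending connected preimages from an algebraic closure to every extension. -/
theorem isConnected_preimage_of_algClosure {Z : Set X}
    (h : _root_.IsConnected ((FBase.bcπ f (AlgebraicClosure k)).base ⁻¹' Z))
    (K : Type u) [Field K] [Algebra k K] :
    _root_.IsConnected ((FBase.bcπ f K).base ⁻¹' Z) := by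
  obtain ⟨E, _, _, a, b, -⟩ := exists_over (k := k) K (AlgebraicClosure k)
  have h2 := (isConnected_preimage_bcMap f b h).image (bcMap f a) (bcMap f a).continuous.continuousOn
  convert h2 using 1
  rw [← Set.preimage_comp]
  show _ = bcMap f a '' ((FBase.bcπ f (AlgebraicClosure k)) ∘ (bcMap f b) ⁻¹' Z)
  have e : ∀ z, FBase.bcπ f (AlgebraicClosure k) (bcMap f b z) = FBase.bcπ f K (bcMap f a z) := fun z => by
    rw [← Scheme.Hom.comp_apply, ← Scheme.Hom.comp_apply, bcMap_bcπ, bcMap_bcπ]
  ext y
  constructor
  · intro hy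
    obtain ⟨z, rfl⟩ := surjective_bcMap f a y
    exact ⟨z, show FBase.bcπ f (AlgebraicClosure k) (bcMap f b z) ∈ Z from (e z).symm ▸ hy, rfl⟩
  · rintro ⟨z, hz, rfl⟩
    show FBase.bcπ f K (bcMap f a z) ∈ Z
    rw [← e z]; exact hz

theorem isClosedMap_bcπ_algClosure : IsClosedMap (FBase.bcπ f (AlgebraicClosure k)).base := by
  have := H06Desc.universallyClosed_algebraicClosure (k := k)
  exact (pullback.fst f (Spec.map (CommRingCat.ofHom (algebraMap k (AlgebraicClosure k))))).isClosedMap

theorem isConnected_preimage_connectedComponent_of_source {Y : Scheme.{u}} (h : Y ⟶ X)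
    [GeometricallyConnected (h ≫ f)] (y : Y) (K : Type u) [Field K] [Algebra k K] :
    _root_.IsConnected ((FBase.bcπ f K).base ⁻¹' connectedComponent (h y)) := by
  refine isConnected_preimage_of_algClosure f ?_ K
  let s := Spec.map (CommRingCat.ofHom (algebraMap k (AlgebraicClosure k)))
  let p := pullback.fst f s
  haveI hYc : ConnectedSpace ↥(pullback h p) := by
    haveI := pullback_of_geometrically
      (GeometricallyConnected.geometrically_connectedSpace (f := h ≫ f)) (AlgebraicClosure k) s
    exact (pullbackRightPullbackFstIso f s h).hom.homeomorph.connectedSpace_iff.mpr this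
  haveI hY : ConnectedSpace Y := by
    haveI := pullback_of_geometrically
      (GeometricallyConnected.geometrically_connectedSpace (f := h ≫ f)) (AlgebraicClosure k) s
    exact H06Desc.connectedSpace_of_surjective (pullback.fst (h ≫ f) s)
  refine isConnected_preimage_of_fibre f isConnected_connectedComponent
    (isPreconnected_range (pullback.snd h p).continuous) ?_ (isClosedMap_bcπ_algClosure f)
    mem_connectedComponent ?_
  · rintro _ ⟨w, rfl⟩
    show p (pullback.snd h p w) ∈ connectedComponent (h y)
    rw [← Scheme.Hom.comp_apply, ← pullback.condition, Scheme.Hom.comp_apply]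
    exact (isPreconnected_range h.continuous).subset_connectedComponent ⟨y, rfl⟩ ⟨_, rfl⟩
  · intro z hz
    obtain ⟨w, -, hw⟩ := Scheme.Pullback.exists_preimage_pullback (f := h) (g := p) y z hz.symm
    exact ⟨w, hw⟩

theorem isConnected_preimage_connectedComponent_of_irreducible {Y : Set X} (hY : IsIrreducible Y)
    (hgi : ∀ (L : Type u) [Field L] [Algebra k L], IsIrreducible ((FBase.bcπ f L).base ⁻¹' Y))
    (y : X) (hy : y ∈ Y) (K : Type u) [Field K] [Algebra k K] :
    _root_.IsConnected ((FBase.bcπ f K).base ⁻¹' connectedComponent y) :=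
  isConnected_preimage_of_algClosure f
    (isConnected_preimage_of_fibre f isConnected_connectedComponent
      (hgi (AlgebraicClosure k)).isConnected.2
      (Set.preimage_mono (hY.isConnected.2.subset_connectedComponent hy))
      (isClosedMap_bcπ_algClosure f) (z₀ := y) mem_connectedComponent
      (Set.preimage_mono (Set.singleton_subset_iff.2 hy))) K

end Groth.Agent.H06Geom
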