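import Groth.Agent.H06Geom.Components
import Mathlib

/-!
`K ⊗_k L` has no nontrivial idempotents when `k` is separably closed in `K` (EGA IV 4.3.2).
-/

set_option autoImplicit false
set_option linter.style.haveILetI false

universe u

open Polynomial TensorProduct IntermediateField

namespace Groth.Agent.H06Geom

variable {k K : Type u} [Field k] [Field K] [Algebra k K]

theorem isPurelyInseparable_algebraicClosure_of_separableClosure_eq_bot
    (h : separableClosure k K = ⊥) : IsPurelyInseparable k ↥(algebraicClosure k K) := by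
  have : Algebra.IsAlgebraic k ↥(algebraicClosure k K) := inferInstance
  refine ⟨Algebra.IsAlgebraic.isIntegral, fun x hx => ?_⟩
  have hx' : IsSeparable k (x : K) := by
    show (minpoly k (x : K)).Separable
    rw [show minpoly k (x : K) = minpoly k x from
      minpoly.algHom_eq (algebraicClosure k K).val Subtype.val_injective x]
    exact hx
  have hm : (x : K) ∈ (⊥ : IntermediateField k K) := h ▸ mem_separableClosure_iff.2 hx'
  obtain ⟨c, hc⟩ := IntermediateField.mem_bot.1 hm
  exact ⟨c, Subtype.ext hc⟩

/-- Separable irreducible polynomials stay irreducible over `K`. -/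
theorem irreducible_map_of_separableClosure_eq_bot (h : separableClosure k K = ⊥) {g : k[X]}
    (hsep : g.Separable) (hm : g.Monic) (hirr : Irreducible g) :
    Irreducible (g.map (algebraMap k K)) := by
  have := isPurelyInseparable_algebraicClosure_of_separableClosure_eq_bot h
  set A := algebraicClosure k K
  have hA := hsep.map_irreducible_of_isPurelyInseparable (E := A) hirr
  have hmK : (g.map (algebraMap k K)).Monic := hm.map _
  rw [Polynomial.irreducible_of_monic hmK (by
    intro h1
    have := congrArg natDegree h1
    rw [natDegree_map, natDegree_one] at this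
    exact hirr.natDegree_pos.ne' this)]
  intro p q hp hq hpq
  have lift : ∀ r : K[X], r.Monic → r ∣ g.map (algebraMap k K) →
      ∃ r' : A[X], r'.map (algebraMap A K) = r ∧ r'.degree = r.degree ∧ r'.Monic := by
    intro r hr hdvd
    refine lifts_and_degree_eq_and_monic ?_ hr
    rw [lifts_iff_coeff_lifts]
    exact fun n => ⟨⟨r.coeff n, mem_algebraicClosure_iff.2
      (isIntegral_coeff_of_dvd g r hm hr hdvd n).isAlgebraic⟩, rfl⟩
  obtain ⟨p', hp', -, hp'm⟩ := lift p hp ⟨q, hpq.symm⟩
  obtain ⟨q', hq', -, hq'm⟩ := lift q hq ⟨p, by rw [mul_comm, hpq]⟩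
  have hpq' : p' * q' = g.map (algebraMap k A) := by
    apply Polynomial.map_injective (algebraMap A K) (algebraMap A K).injective
    rw [Polynomial.map_mul, hp', hq', hpq, Polynomial.map_map,
      ← IsScalarTower.algebraMap_eq k A K]
  rw [Polynomial.irreducible_of_monic (hm.map (algebraMap k A)) hA.ne_one] at hA
  rcases hA p' q' hp'm hq'm hpq' with h1 | h1
  · left; rw [← hp', h1, Polynomial.map_one]
  · right; rw [← hq', h1, Polynomial.map_one]

theorem isDomain_tensor_finite (h : separableClosure k K = ⊥) (L : Type u) [Field L] [Algebra k L]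
    [FiniteDimensional k L] [Algebra.IsSeparable k L] : IsDomain (K ⊗[k] L) := by
  obtain ⟨α, hα⟩ := Field.exists_primitive_element k L
  have hint : IsIntegral k α := Algebra.IsIntegral.isIntegral α
  set g := minpoly k α with hg
  have hirr := irreducible_map_of_separableClosure_eq_bot h
    (Algebra.IsSeparable.isSeparable k α) (minpoly.monic hint) (minpoly.irreducible hint)
  have : Fact (Irreducible (g.map (algebraMap k K))) := ⟨hirr⟩
  let M := AdjoinRoot (g.map (algebraMap k K))
  have hmon : (g.map (algebraMap k K)).Monic := (minpoly.monic hint).map _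
  have : Module.Finite K M := hmon.finite_adjoinRoot
  let pb := IntermediateField.adjoin.powerBasis hint
  let e : L ≃ₐ[k] k⟮α⟯ := (IntermediateField.topEquiv.symm.trans (IntermediateField.equivOfEq hα.symm))
  let r : M := AdjoinRoot.root _
  have hr : aeval r g = 0 := by
    rw [← aeval_map_algebraMap K r g]
    rw [AdjoinRoot.aeval_eq]; exact AdjoinRoot.mk_self
  let ψ : k⟮α⟯ →ₐ[k] M := pb.lift r (by
    rw [IntermediateField.adjoin.powerBasis_gen hint, IntermediateField.minpoly_gen]
    exact hr)
  let Φ : K ⊗[k] L →ₐ[K] M :=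
    Algebra.TensorProduct.lift (Algebra.ofId K M) (ψ.comp e.toAlgHom) (fun _ _ => .all _ _)
  have hgen : r ∈ Φ.range := by
    refine ⟨(1 : K) ⊗ₜ e.symm pb.gen, ?_⟩
    show Φ _ = _
    rw [Algebra.TensorProduct.lift_tmul, map_one, one_mul]
    show ψ (e (e.symm pb.gen)) = r
    rw [AlgEquiv.apply_symm_apply]
    exact pb.lift_gen r _
  have hsurj : Function.Surjective Φ := by
    rw [← AlgHom.range_eq_top, eq_top_iff, ← AdjoinRoot.adjoinRoot_eq_top]
    exact Algebra.adjoin_le (Set.singleton_subset_iff.2 hgen)
  have hdim : Module.finrank K (K ⊗[k] L) = Module.finrank K M := by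
    rw [Module.finrank_baseChange, (Field.primitive_element_iff_minpoly_natDegree_eq k α).1 hα |>.symm,
      (AdjoinRoot.powerBasis hmon.ne_zero).finrank, AdjoinRoot.powerBasis_dim, natDegree_map]
  have hinj : Function.Injective Φ :=
    (LinearMap.injective_iff_surjective_of_finrank_eq_finrank (f := Φ.toLinearMap) hdim).2 hsurj
  exact hinj.isDomain Φ.toRingHom

theorem exists_idem_of_purelyInseparable (S kb : Type u) [Field S] [Field kb] [Algebra k S]
    [Algebra k kb] [Algebra S kb] [IsScalarTower k S kb] [IsPurelyInseparable S kb]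
    (e : kb ⊗[k] K) (he : IsIdempotentElem e) :
    ∃ t : S ⊗[k] K, Algebra.TensorProduct.map (IsScalarTower.toAlgHom k S kb) (AlgHom.id k K) t = e := by
  let θ : kb ⊗[k] K ≃ₐ[S] (S ⊗[k] K) ⊗[S] kb :=
    ((Algebra.TensorProduct.cancelBaseChange k S S kb K).symm).trans
      (Algebra.TensorProduct.comm S kb (S ⊗[k] K))
  have hθ : IsIdempotentElem (θ e) := he.map θ
  obtain ⟨n, hn, t, ht⟩ :=
    IsPurelyInseparable.exists_pow_mem_range_tensorProduct (k := S) (R := S ⊗[k] K) (K := kb) (θ e)
  rw [hθ.pow_eq hn.ne'] at ht
  refine ⟨t, θ.injective ?_⟩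
  rw [← ht]
  clear ht
  induction t using TensorProduct.induction_on with
  | zero => simp
  | tmul s c =>
    have h1 : (IsScalarTower.toAlgHom k S kb s) ⊗ₜ[k] c = (s • ((1 : kb) ⊗ₜ[k] c)) := by
      rw [TensorProduct.smul_tmul', Algebra.smul_def, mul_one]; rfl
    rw [Algebra.TensorProduct.map_tmul, AlgHom.id_apply, h1, map_smul]
    simp only [θ, AlgEquiv.trans_apply, Algebra.TensorProduct.cancelBaseChange_symm_tmul,
      Algebra.TensorProduct.comm_tmul, Algebra.TensorProduct.algebraMap_apply]
    rw [TensorProduct.smul_tmul', TensorProduct.smul_tmul', smul_eq_mul, mul_one]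
    rfl
  | add x y hx hy => simp only [map_add, hx, hy]

/-- If `k` is separably closed in `K`, then `Spec (K ⊗_k k̄)` is connected. -/
theorem isIdempotentElem_trivial (h : separableClosure k K = ⊥)
    (e : AlgebraicClosure k ⊗[k] K) (he : IsIdempotentElem e) : e = 0 ∨ e = 1 := by
  classical
  let S := separableClosure k (AlgebraicClosure k)
  have : IsPurelyInseparable S (AlgebraicClosure k) :=
    separableClosure.isPurelyInseparable k (AlgebraicClosure k)
  obtain ⟨t, hte'⟩ := exists_idem_of_purelyInseparable (k := k) (K := K) S (AlgebraicClosure k) e he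
  have hte : (Algebra.TensorProduct.map S.val (AlgHom.id k K)) t = e := hte'
  have hιinj : Function.Injective (Algebra.TensorProduct.map S.val (AlgHom.id k K)) :=
    Module.Flat.rTensor_preserves_injective_linearMap (M := K) S.val.toLinearMap Subtype.val_injective
  have ht' : IsIdempotentElem t := hιinj (by rw [map_mul, hte, he.eq])
  obtain ⟨T, hT⟩ := TensorProduct.exists_finset t
  let L := IntermediateField.adjoin k ((T.image Prod.fst : Finset S) : Set S)
  have : FiniteDimensional k L :=
    IntermediateField.finiteDimensional_adjoin fun x _ => Algebra.IsIntegral.isIntegral x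
  let j : L ⊗[k] K →ₐ[k] S ⊗[k] K := Algebra.TensorProduct.map L.val (AlgHom.id k K)
  have hjinj : Function.Injective j :=
    Module.Flat.rTensor_preserves_injective_linearMap (M := K) L.val.toLinearMap Subtype.val_injective
  obtain ⟨t₀, ht₀⟩ : t ∈ j.range := by
    rw [hT]
    refine sum_mem fun p hp => ⟨(⟨p.1, IntermediateField.subset_adjoin k _
      (Finset.mem_coe.2 (Finset.mem_image_of_mem _ hp))⟩ : L) ⊗ₜ p.2, ?_⟩
    simp [j]
  have hdom := isDomain_tensor_finite h L
  have ht₀' : t₀ * t₀ = t₀ := hjinj (by
    show j (t₀ * t₀) = j t₀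
    rw [map_mul, show j t₀ = t from ht₀, ht'.eq])
  set c := Algebra.TensorProduct.comm k L K
  have hz : c t₀ * (c t₀ - 1) = 0 := by rw [mul_sub, mul_one, ← map_mul, ht₀', sub_self]
  rcases (mul_eq_zero.1 hz).imp id sub_eq_zero.1 with h0 | h0
  · left
    have h1 : t₀ = 0 := c.injective (h0.trans (map_zero c).symm)
    rw [← hte, ← ht₀, h1]; simp
  · right
    have h1 : t₀ = 1 := c.injective (h0.trans (map_one c).symm)
    rw [← hte, ← ht₀, h1]
    simp [Algebra.TensorProduct.one_def, j]

open CategoryTheory CategoryTheory.Limits AlgebraicGeometry in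
/-- `Spec K` is geometrically connected over a field separably closed in `K`. -/
theorem geometricallyConnected_Spec (h : separableClosure k K = ⊥) :
    GeometricallyConnected (Spec.map (CommRingCat.ofHom (algebraMap k K))) := by
  let s := Spec.map (CommRingCat.ofHom (algebraMap k (AlgebraicClosure k)))
  let T := AlgebraicClosure k ⊗[k] K
  have hT : ConnectedSpace (PrimeSpectrum T) := by
    have : Nontrivial T :=
      (Algebra.TensorProduct.includeLeft_injective (R := k) (A := AlgebraicClosure k) (B := K)
        (S := k) (algebraMap k K).injective).nontrivial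
    suffices PreconnectedSpace (PrimeSpectrum T) from ⟨inferInstance⟩
    rw [preconnectedSpace_iff_clopen]
    intro c hc
    obtain ⟨e, he, rfl⟩ := PrimeSpectrum.isClopen_iff.1 hc
    rcases isIdempotentElem_trivial h e he with rfl | rfl
    · left; simp
    · right; simp
  haveI hc : ConnectedSpace ↥(pullback (Spec.map (CommRingCat.ofHom (algebraMap k K))) s) :=
    (pullbackSymmetry _ _ ≪≫ pullbackSpecIso k (AlgebraicClosure k) K).hom.homeomorph.connectedSpace_iff.mpr hT
  haveI := H19Grp.geometricallyConnected_of_connectedSpace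
    (pullback.snd (Spec.map (CommRingCat.ofHom (algebraMap k K))) s)
  exact H06Desc.geometricallyConnected_of_pullback_snd _ s

end Groth.Agent.H06Geom
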