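import Groth.Agent.H17.AssTensorNe
import Groth.Agent.H17.AssGeneric
import Groth.Agent.H8Props.Generic
import Groth.Agent.H06Desc.Discrete

/-!
# Embedded associated points and field extensions (EGA IV 4.2)
-/

set_option autoImplicit false
set_option linter.style.haveILetI false
set_option backward.isDefEq.respectTransparency false
universe u

open CategoryTheory CategoryTheory.Limits AlgebraicGeometry IsLocalRing

namespace Groth.Agent.H06Geom

theorem ass_of_isIntegral {X : Scheme.{u}} [IsIntegral X] {x : X}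
    (hx : x ∈ AssSch.Ass (Coh.structureModule X)) {y : X} (hy : y ⤳ x) : y = x := by
  obtain ⟨-, m, hm⟩ :=
    (H29Blow.isWeakAssPoint_structureModule_iff x).1 ((H29Blow.isAssPoint_iff_isWeakAssPoint _ x).1 hx)
  have hbot : maximalIdeal (X.presheaf.stalk x) = ⊥ := by
    refine le_bot_iff.1 fun r hr => ?_
    rw [hm] at hr
    obtain ⟨n, hn⟩ := hr
    rw [Submodule.mem_colon_singleton, Submodule.mem_bot, smul_eq_mul] at hn
    rcases mul_eq_zero.1 hn with h | h
    · exact (Submodule.mem_bot _).2 (eq_zero_of_pow_eq_zero h)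
    · subst h
      exact absurd (hm.trans (Ideal.radical_eq_top.2 (by ext; simp [Submodule.mem_colon_singleton])))
        (maximalIdeal.isMaximal _).ne_top
  obtain ⟨q, rfl⟩ : y ∈ Set.range (X.fromSpecStalk x) := by rw [Scheme.range_fromSpecStalk]; exact hy
  have : q = closedPoint (X.presheaf.stalk x) :=
    PrimeSpectrum.ext ((le_maximalIdeal q.2.ne_top).antisymm (hbot.le.trans bot_le))
  rw [this, Scheme.fromSpecStalk_closedPoint]

theorem noEmbedded_of_isIntegral (X : Scheme.{u}) [IsIntegral X] :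
    AssSch.NoEmbedded (Coh.structureModule X) := fun _ hx _ _ h => (ass_of_isIntegral hx h).symm

theorem noEmbedded_iff_of_flat_surjective {W Z : Scheme.{u}} (π : W ⟶ Z) [Flat π]
    (hsurj : Function.Surjective π) [IsLocallyNoetherian Z]
    (hfib : ∀ z, AssSch.NoEmbedded (Coh.structureModule (π.fiber z))) :
    AssSch.NoEmbedded (Coh.structureModule Z) ↔ AssSch.NoEmbedded (Coh.structureModule W) := by
  have hW : ∀ w, w ∈ AssSch.Ass (Coh.structureModule W) ↔
      ∃ z ∈ AssSch.Ass (Coh.structureModule Z), ∃ v ∈ AssSch.Ass (Coh.structureModule (π.fiber z)),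
        π.fiberι z v = w := fun w => by
    rw [← H17.AssTensorS.ass_congr (H16Derived.KFlat.Stalk.structurePullbackIso π)]
    exact H17.AssTensorS.mem_ass_flat_pullback_iff π _ (fun z => inferInstance) w
  have hπ : ∀ z (v : π.fiber z), π (π.fiberι z v) = z := fun z v => (π.range_fiberι z).subset ⟨v, rfl⟩
  constructor
  · intro hZ w₁ h₁ w₂ h₂ hsp
    obtain ⟨z₁, hz₁, v₁, hv₁, rfl⟩ := (hW w₁).1 h₁
    obtain ⟨z₂, hz₂, v₂, hv₂, rfl⟩ := (hW w₂).1 h₂
    have := hsp.map π.continuous
    rw [hπ, hπ] at this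
    obtain rfl := hZ z₁ hz₁ z₂ hz₂ this
    rw [hfib z₁ v₁ hv₁ v₂ hv₂ ((π.fiberι z₁).isEmbedding.isInducing.specializes_iff.1 hsp)]
  · intro hWne z₁ hz₁ z₂ hz₂ hsp
    have hne : ∀ z, Nonempty ↥(π.fiber z) := fun z => by
      obtain ⟨w, hw⟩ := hsurj z
      obtain ⟨v, -⟩ : w ∈ Set.range (π.fiberι z) := by rw [π.range_fiberι]; exact hw
      exact ⟨v⟩
    obtain ⟨v⟩ := hne z₁
    obtain ⟨v₁, hv₁, -⟩ := H8Props.exists_genericPoints_specializes v
    have h1 := H17.AssPts.genericPoint_mem_ass hv₁
    obtain ⟨w', hw', hwz⟩ := Flat.generalizingMap π (show z₂ ⤳ π (π.fiberι z₁ v₁) by rw [hπ]; exact hsp)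
    obtain ⟨v', rfl⟩ : w' ∈ Set.range (π.fiberι z₂) := by rw [π.range_fiberι]; exact hwz
    obtain ⟨v₂, hv₂, hv₂'⟩ := H8Props.exists_genericPoints_specializes v'
    have h2 := H17.AssPts.genericPoint_mem_ass hv₂
    have := hWne _ ((hW _).2 ⟨z₁, hz₁, v₁, h1, rfl⟩) _ ((hW _).2 ⟨z₂, hz₂, v₂, h2, rfl⟩)
      ((hv₂'.map (π.fiberι z₂).continuous).trans hw')
    rw [← hπ z₁ v₁, this, hπ]

/-- The fibres of the projection from a base change to a field have no embedded points. -/
theorem noEmbedded_fibre_pullback_field {X S : Scheme.{u}} {K : Type u} [Field K] (f : X ⟶ S)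
    (s : Spec (CommRingCat.of K) ⟶ S) (x : X) :
    AssSch.NoEmbedded (Coh.structureModule ((pullback.fst f s).fiber x)) :=
  H17.AssFields.noEmbedded_of_iso
    (pullbackSymmetry (pullback.fst f s) (X.fromSpecResidueField x) ≪≫
      pullbackRightPullbackFstIso f s (X.fromSpecResidueField x))
    (H17.AssFields.noEmbedded_pullback_fields (X.residueField x) K (X.fromSpecResidueField x ≫ f) s)

theorem isIso_fiberι_of_field {k : Type u} [Field k] {Y : Scheme.{u}} (g : Y ⟶ Spec (CommRingCat.of k))
    (s : ↥(Spec (CommRingCat.of k))) : IsIso (g.fiberι s) := by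
  haveI : IsIso ((Spec (CommRingCat.of k)).fromSpecResidueField s) := by
    rw [← Scheme.Spec.map_residueFieldIso_inv_eq_fromSpecResidueField]
    haveI : IsIso (CommRingCat.ofHom (algebraMap k s.asIdeal.ResidueField)) := by
      refine (ConcreteCategory.isIso_iff_bijective _).2 ⟨(algebraMap k s.asIdeal.ResidueField).injective, ?_⟩
      haveI : s.asIdeal.IsMaximal := by
        rw [(Ideal.eq_bot_or_top s.asIdeal).resolve_right s.2.ne_top]
        exact Ideal.bot_isMaximal
      exact Ideal.algebraMap_residueField_surjective _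
    infer_instance
  exact inferInstanceAs (IsIso (pullback.fst g ((Spec (CommRingCat.of k)).fromSpecResidueField s)))

end Groth.Agent.H06Geom
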